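import Cfsg.Agent.H714.HN.FixGe
import Cfsg.Agent.CpAutHN.PPFacts
import Cfsg.Agent.KFacts.HN.PCard
import Cfsg.Agent.S1701

/-!
# The 2-elements of HN have centralizers of order at least 16 (helper714)
-/

set_option autoImplicit false

namespace Cfsg.Agent.H714.HN

open Subgroup
open Cfsg.Agent.HN.Pres Cfsg.Agent.HN.H0Basic
open Cfsg.Agent.HN.XWords (W0 W0_sq)
open Cfsg.Agent.HN.XStruct Cfsg.Agent.HN.XQuot Cfsg.Agent.HN.XInst
open Cfsg.Agent.KFacts.HN
open Cfsg.Agent.CpAutHN.LqFacts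

theorem Rk_comm (a b : Rk) : a * b = b * a := by
  obtain ⟨a, m, _, rfl⟩ := a
  obtain ⟨b, n, _, rfl⟩ := b
  exact Subtype.ext (hyp.toBas.r_comm m n)

theorem Rk_sq (a : Rk) : a * a = 1 := by
  obtain ⟨a, m, _, rfl⟩ := a
  exact Subtype.ext (hyp.toBas.r_sq m)

theorem card_Rk : Nat.card Rk = 256 := by
  let F : Fin 256 → Rk := fun m => ⟨r k m, r_mem_R hyp.toBas m.2⟩
  have hF : Function.Bijective F := by
    constructor
    · intro a b hab
      exact Fin.ext (hyp.toBas.r_inj a.2 b.2 (congrArg Subtype.val hab))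
    · rintro ⟨x, m, hm, rfl⟩
      exact ⟨⟨m, hm⟩, rfl⟩
  rw [← Nat.card_eq_of_bijective F hF, Nat.card_fin]

/-- `C(W0)` -/
abbrev CW : Subgroup Cfsg.Spor.HN := centralizer ({W0} : Set Cfsg.Spor.HN)

/-- the projection -/
noncomputable def p0 : CW →* KK W0 := QuotientGroup.mk' (Zw W0)

theorem p0_surj : Function.Surjective p0 := QuotientGroup.mk'_surjective _

theorem ker_p0 : p0.ker = Zw W0 := QuotientGroup.ker_mk' _

theorem card_ker_p0 : Nat.card p0.ker = 2 := by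
  rw [ker_p0, Zw, Nat.card_zpowers]
  refine orderOf_eq_prime ?_ ?_
  · apply Subtype.ext
    change W0 ^ 2 = 1
    rw [pow_two, W0_sq]
  · intro h
    exact PCard.W0_ne_one (congrArg Subtype.val h)

theorem central_p0 : ∀ u ∈ p0.ker, ∀ g : CW, u * g = g * u := by
  intro u hu g
  rw [ker_p0, Zw, mem_zpowers_iff] at hu
  obtain ⟨n, rfl⟩ := hu
  have h1 : Commute (⟨W0, mem_centralizer_singleton_iff.2 rfl⟩ : CW) g :=
    Subtype.ext (mem_PP.1 g.2).symm
  exact h1.zpow_left n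

/-! ### the 2-elements of `Lq` -/

theorem perm_four : ∀ a : Equiv.Perm (Fin 5), a * a * (a * a) = 1 → Equiv.Perm.sign a = 1 → a * a = 1 := by
  decide +kernel

theorem A5_two {a : A5} {n : ℕ} (h : a ^ 2 ^ n = 1) : a * a = 1 := by
  have h1 := orderOf_dvd_of_pow_eq_one h
  obtain ⟨k, _, hk⟩ := (Nat.dvd_prime_pow Nat.prime_two).1 h1
  have h2 : orderOf a ∣ Nat.card A5 := orderOf_dvd_natCard a
  have h3 : Nat.card A5 = 60 := by
    rw [nat_card_alternatingGroup, Nat.card_fin]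
    decide
  rw [h3, hk] at h2
  have h4 : k ≤ 2 := by
    by_contra hcon
    push Not at hcon
    have h5 : 2 ^ 3 ∣ 2 ^ k := pow_dvd_pow 2 hcon
    exact absurd (h5.trans h2) (by norm_num)
  have h5 : a ^ 4 = 1 := by
    apply orderOf_dvd_iff_pow_eq_one.1
    rw [hk]
    exact pow_dvd_pow 2 h4
  have h6 : (a : Equiv.Perm (Fin 5)) * a * (a * a) = 1 := by
    have := congrArg Subtype.val h5
    change (a : Equiv.Perm (Fin 5)) ^ 4 = 1 at this
    rw [← this]
    simp only [pow_succ, pow_zero, one_mul, mul_assoc]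
  exact Subtype.ext (perm_four a h6 (Equiv.Perm.mem_alternatingGroup.1 a.2))

theorem LL_two {x : Lq} (hx : x ∈ LL) {n : ℕ} (h : x ^ 2 ^ n = 1) : x * x = 1 := by
  obtain ⟨a, b, rfl⟩ := mem_LL.1 hx
  have hc : Commute (φA a) (φB b) := comm_AB a b
  rw [hc.mul_pow, ← map_pow, ← map_pow] at h
  have h1 : φA (a ^ 2 ^ n) * φB (b ^ 2 ^ n) = φA 1 * φB 1 := by rw [h, map_one, map_one, one_mul]
  obtain ⟨h2, h3⟩ := φ2_inj h1
  rw [← pow_two, hc.mul_pow, pow_two, pow_two, ← map_mul, ← map_mul, A5_two h2, A5_two h3, map_one, map_one, one_mul]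

theorem Lq_two {x : Lq} {n : ℕ} (h : x ^ 2 ^ n = 1) : x ^ 4 = 1 := by
  have h1 : x ^ 2 ∈ LL := Subgroup.sq_mem_of_index_two index_LL x
  have h2 : (x ^ 2) ^ 2 ^ n = 1 := by rw [← pow_mul, mul_comm, pow_mul, h, one_pow]
  have h3 := LL_two h1 h2
  rw [← h3, ← pow_add]

theorem finite_G : Finite Cfsg.Spor.HN := Nat.finite_of_card_ne_zero (by
  rw [Cfsg.Agent.S1701.result.2]; norm_num)

/-- **(P4)** for the 2-elements of `C(W0)` -/
theorem p4_CW {x : CW} (h2 : ∃ n : ℕ, x ^ 2 ^ n = 1) : 16 ≤ Nat.card (centralizer ({x} : Set CW)) := by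
  have := finite_G
  have h4 : Finite (KK W0) := Finite.of_surjective p0 p0_surj
  obtain ⟨n, hn⟩ := h2
  refine cent_ge p0 p0_surj central_p0 card_ker_p0 Rk_comm Rk_sq card_Rk x ?_
  apply orderOf_dvd_of_pow_eq_one
  exact Lq_two (n := n) (by rw [← map_pow, ← map_pow, hn, map_one, map_one])

/-- **(P4)** -/
theorem p4 {x : Cfsg.Spor.HN} (hx : x ∈ PP) (h2 : ∃ n : ℕ, x ^ 2 ^ n = 1) :
    16 ≤ Nat.card (centralizer ({x} : Set Cfsg.Spor.HN)) := by
  have := finite_G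
  obtain ⟨n, hn⟩ := h2
  refine (p4_CW (x := ⟨x, hx⟩) ⟨n, Subtype.ext hn⟩).trans ?_
  have h1 : ∀ c : centralizer ({(⟨x, hx⟩ : CW)} : Set CW), ((c : CW) : Cfsg.Spor.HN) ∈
      centralizer ({x} : Set Cfsg.Spor.HN) := by
    intro c
    rw [mem_centralizer_singleton_iff]
    exact congrArg Subtype.val (mem_centralizer_singleton_iff.1 c.2)
  refine Nat.card_le_card_of_injective (fun c => (⟨_, h1 c⟩ : centralizer ({x} : Set Cfsg.Spor.HN))) ?_
  intro a b hab
  have h3 : ((a : CW) : Cfsg.Spor.HN) = ((b : CW) : Cfsg.Spor.HN) := Subtype.mk.inj hab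
  exact Subtype.ext (Subtype.ext h3)

/-- every 2-element is conjugate to an element of `C(W0)` -/
theorem exists_conj_PP {x : Cfsg.Spor.HN} (h2 : ∃ n : ℕ, x ^ 2 ^ n = 1) : ∃ g : Cfsg.Spor.HN, g * x * g⁻¹ ∈ PP := by
  have := finite_G
  have : Fact (Nat.Prime 2) := ⟨Nat.prime_two⟩
  obtain ⟨n, hn⟩ := h2
  have hz : IsPGroup 2 (zpowers x) := by
    rw [IsPGroup.iff_card]
    rw [Nat.card_zpowers]
    obtain ⟨k, _, hk⟩ := (Nat.dvd_prime_pow Nat.prime_two).1 (orderOf_dvd_of_pow_eq_one hn)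
    exact ⟨k, hk⟩
  obtain ⟨P, hP⟩ := hz.exists_le_sylow
  obtain ⟨Q⟩ : Nonempty (Sylow 2 PP) := inferInstance
  have hQ : Nat.card Q = 2 ^ 14 := by
    rw [Q.card_eq_multiplicity]
    have h1 : Nat.card PP = 2 ^ 14 * 225 := PCard.card_centralizer
    rw [h1, Nat.factorization_mul (by norm_num) (by norm_num), Nat.prime_two.factorization_pow]
    have h3 : (225 : ℕ).factorization 2 = 0 := Nat.factorization_eq_zero_of_not_dvd (by norm_num)
    rw [Finsupp.add_apply, h3, Finsupp.single_eq_same]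
  have hQ' : Nat.card ((Q : Subgroup PP).map PP.subtype) = 2 ^ 14 := by
    rw [← hQ]
    exact (Nat.card_congr ((Q : Subgroup PP).equivMapOfInjective _ PP.subtype_injective).toEquiv).symm
  have hG : (Nat.card Cfsg.Spor.HN).factorization 2 = 14 := by
    have h1 : Nat.card Cfsg.Spor.HN = 2 ^ 14 * 16664484375 := by
      rw [Cfsg.Agent.S1701.result.2]
      norm_num
    rw [h1, Nat.factorization_mul (by norm_num) (by norm_num), Nat.prime_two.factorization_pow]
    have h3 : (16664484375 : ℕ).factorization 2 = 0 := Nat.factorization_eq_zero_of_not_dvd (by norm_num)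
    rw [Finsupp.add_apply, h3, Finsupp.single_eq_same]
  let Q' : Sylow 2 Cfsg.Spor.HN := Sylow.ofCard ((Q : Subgroup PP).map PP.subtype) (by rw [hQ', hG])
  obtain ⟨g, hg⟩ := MulAction.exists_smul_eq Cfsg.Spor.HN P Q'
  refine ⟨g, ?_⟩
  have h1 : g * x * g⁻¹ ∈ (g • P : Sylow 2 Cfsg.Spor.HN) := by
    change g * x * g⁻¹ ∈ ((g • P : Sylow 2 Cfsg.Spor.HN) : Subgroup Cfsg.Spor.HN)
    rw [Sylow.coe_subgroup_smul]
    exact Subgroup.smul_mem_pointwise_smul x (MulAut.conj g) _ (hP (mem_zpowers x))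
  rw [hg] at h1
  have h2 : g * x * g⁻¹ ∈ (Q : Subgroup PP).map PP.subtype := h1
  obtain ⟨y, _, hy⟩ := h2
  rw [← hy]
  exact y.2

/-- **(P4)** for all the 2-elements -/
theorem p4_all {x : Cfsg.Spor.HN} (h2 : ∃ n : ℕ, x ^ 2 ^ n = 1) :
    16 ≤ Nat.card (centralizer ({x} : Set Cfsg.Spor.HN)) := by
  obtain ⟨g, hg⟩ := exists_conj_PP h2
  obtain ⟨n, hn⟩ := h2
  have h1 := p4 hg ⟨n, by rw [conj_pow, hn, mul_one, mul_inv_cancel]⟩
  refine h1.trans (le_of_eq ?_)
  have h3 : centralizer ({g * x * g⁻¹} : Set Cfsg.Spor.HN) =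
      (centralizer ({x} : Set Cfsg.Spor.HN)).map (MulAut.conj g).toMonoidHom := by
    ext y
    rw [mem_centralizer_singleton_iff, mem_map]
    constructor
    · intro hy
      refine ⟨g⁻¹ * y * g, ?_, ?_⟩
      · rw [mem_centralizer_singleton_iff]
        calc g⁻¹ * y * g * x = g⁻¹ * (y * (g * x * g⁻¹)) * g := by group
          _ = g⁻¹ * (g * x * g⁻¹ * y) * g := by rw [hy]
          _ = x * (g⁻¹ * y * g) := by group
      · change g * (g⁻¹ * y * g) * g⁻¹ = y
        group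
    · rintro ⟨z, hz, rfl⟩
      rw [mem_centralizer_singleton_iff] at hz
      change g * z * g⁻¹ * (g * x * g⁻¹) = g * x * g⁻¹ * (g * z * g⁻¹)
      calc g * z * g⁻¹ * (g * x * g⁻¹) = g * (z * x) * g⁻¹ := by group
        _ = g * (x * z) * g⁻¹ := by rw [hz]
        _ = _ := by group
  rw [h3]
  exact (Nat.card_congr ((centralizer ({x} : Set Cfsg.Spor.HN)).equivMapOfInjective _
    (MulAut.conj g).injective).toEquiv).symm

end Cfsg.Agent.H714.HN
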